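import Groth.Agent.CAlg7.ValNorm
import Mathlib

/-! Noether normalisation adapted to a chain of primes of an affine domain. -/

set_option autoImplicit false
set_option linter.style.haveILetI false
universe u

open MvPolynomial

namespace Groth.Agent.NoetherChain31

open CAlg7.ValNorm

variable {k A : Type u} [Field k] [CommRing A] [Algebra k A]

/-- a list starting with elements of `q` and ending with representatives of `t` -/
def Adapted {r M : ℕ} (q : Ideal A) (t : Fin r → A) (z : Fin (M + r) → A) : Prop :=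
  (∀ j : Fin M, z (Fin.castAdd r j) ∈ q) ∧ ∀ i : Fin r, z (Fin.natAdd M i) - t i ∈ q

theorem reduce {d r : ℕ} (hd : ringKrullDim A = (d : WithBot ℕ∞)) (q : Ideal A) (t : Fin r → A) :
    ∀ M : ℕ, d ≤ M + r → ∀ z : Fin (M + r) → A,
      Gen (F := k) z → Adapted q t z → r ≤ d →
      ∃ w : Fin (d - r + r) → A, Gen (F := k) w ∧ Adapted q t w := by
  intro M
  induction M with
  | zero =>
    intro hn z hz ha hr
    obtain rfl : d = r := by omega
    have : d - d = 0 := Nat.sub_self d
    rw [this]
    exact ⟨z, hz, ha⟩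
  | succ M ih =>
    intro hn z hz ha hr
    rcases Nat.eq_or_lt_of_le hn with heq | hlt
    · have : d - r = M + 1 := by omega
      rw [this]
      exact ⟨z, hz, ha⟩
    let z' : Fin ((M + r) + 1) → A := fun j => z (j.cast (by omega))
    have hz' : Gen (F := k) z' := by
      refine gen_of_val z z' hz fun L _ φ O _ hO j => ?_
      have := hO (j.cast (by omega))
      simpa [z'] using this
    obtain ⟨e₀, he₀⟩ := nagata z' hz' (by
      rw [hd]
      exact_mod_cast (show d < M + r + 1 by omega))
    have hgen := he₀ (e₀ + 1) (by omega)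
    have hz0 : z' 0 ∈ q := by
      have h := ha.1 (⟨0, by omega⟩ : Fin (M + 1))
      have e : (Fin.cast (by omega) (0 : Fin ((M + r) + 1)) : Fin (M + 1 + r)) = Fin.castAdd r (⟨0, by omega⟩ : Fin (M + 1)) :=
        Fin.ext rfl
      show z _ ∈ q
      rw [e]
      exact h
    have hp : ∀ j : Fin (M + r), z' 0 ^ (e₀ + 1) ^ (j.succ : ℕ) ∈ q := fun j =>
      Ideal.pow_mem_of_mem q hz0 _ (Nat.pos_of_ne_zero (pow_ne_zero _ (by omega)))
    refine ih (by omega) _ hgen ⟨fun j => sub_mem ?_ (hp _), fun i => ?_⟩ hr
    · have h := ha.1 j.succ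
      have e : (Fin.cast (by omega) (Fin.castAdd r j).succ : Fin (M + 1 + r)) = Fin.castAdd r j.succ := Fin.ext rfl
      show z _ ∈ q
      rw [e]
      exact h
    · have h := ha.2 i
      have e : (Fin.cast (by omega) (Fin.natAdd M i).succ : Fin (M + 1 + r)) = Fin.natAdd (M + 1) i := by
        apply Fin.ext; simp; omega
      show z _ - _ - t i ∈ q
      rw [e, sub_right_comm]
      exact sub_mem h (hp _)

theorem injective_of_finite [IsDomain A] {d : ℕ} (hd : ringKrullDim A = (d : WithBot ℕ∞))
    (φ : MvPolynomial (Fin d) k →ₐ[k] A) (hφ : φ.toRingHom.IsIntegral) : Function.Injective φ := by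
  rw [injective_iff_map_eq_zero]
  intro p hp
  by_contra hp0
  let R := MvPolynomial (Fin d) k
  let I := RingHom.ker φ.toRingHom
  have hR : ringKrullDim R = (d : WithBot ℕ∞) := by
    rw [MvPolynomial.ringKrullDim_of_isNoetherianRing, ringKrullDim_eq_zero_of_field, zero_add, Nat.card_fin]
  have hmem : p ∈ I := hp
  have h1 : ringKrullDim A ≤ ringKrullDim (R ⧸ I) := by
    letI := (RingHom.kerLift φ.toRingHom).toAlgebra
    haveI : Algebra.IsIntegral (R ⧸ I) A := ⟨fun a => by
      obtain ⟨P, hPm, hP⟩ := hφ a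
      refine ⟨P.map (Ideal.Quotient.mk I), hPm.map _, ?_⟩
      rw [Polynomial.eval₂_map]
      exact hP⟩
    exact EGA4Alg4.ringKrullDim_le_of_integral (R ⧸ I) A
  have h2 := ringKrullDim_quotient_succ_le_of_nonZeroDivisor (R := R) (mem_nonZeroDivisors_of_ne_zero hp0)
  have h4 : ringKrullDim (R ⧸ I) ≤ ringKrullDim (R ⧸ Ideal.span {p}) :=
    ringKrullDim_le_of_surjective (Ideal.Quotient.factor ((Ideal.span_singleton_le_iff_mem I).2 hmem))
      (Ideal.Quotient.factor_surjective _)
  replace h1 := h1.trans h4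
  rw [hd] at h1
  rw [hR] at h2
  have h3 : ((d : WithBot ℕ∞)) + 1 ≤ (d : WithBot ℕ∞) := le_trans (add_le_add_left h1 1) h2
  have : d + 1 ≤ d := by exact_mod_cast h3
  omega

variable [Algebra.FiniteType k A]

theorem finite_of_gen {m : ℕ} (w : Fin m → A) (hw : Gen (F := k) w) :
    (aeval w : MvPolynomial (Fin m) k →ₐ[k] A).toRingHom.Finite :=
  RingHom.IsIntegral.to_finite hw <| RingHom.FiniteType.of_comp_finiteType (f := algebraMap k _) <| by
    rw [show (aeval w).toRingHom.comp (algebraMap k (MvPolynomial (Fin m) k)) = algebraMap k A from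
      (aeval w).comp_algebraMap]
    exact RingHom.finiteType_algebraMap.2 inferInstance

/-- A normalisation of `A / q` extends to one of `A`. -/
theorem exists_adapted [IsDomain A] {d : ℕ} (hd : ringKrullDim A = (d : WithBot ℕ∞)) (q : Ideal A) [q.IsPrime]
    {c : ℕ} (hcd : c ≤ d) (g : MvPolynomial (Fin c) k →ₐ[k] A ⧸ q) (hg : g.toRingHom.IsIntegral) :
    ∃ φ : MvPolynomial (Fin d) k →ₐ[k] A, φ.toRingHom.Finite ∧ Function.Injective φ ∧
      ∀ l : Fin d, Ideal.Quotient.mk q (φ (X l)) =
        if h : d - c ≤ (l : ℕ) then g (X (⟨l - (d - c), by omega⟩ : Fin c)) else 0 := by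
  classical
  obtain ⟨n, π, hπ⟩ := Algebra.FiniteType.iff_quotient_mvPolynomial''.1 (inferInstance : Algebra.FiniteType k A)
  let a : Fin n → A := fun i => π (X i)
  choose t ht using fun i : Fin c => Ideal.Quotient.mk_surjective (I := q) (g (X i))
  have hgt : (Ideal.Quotient.mkₐ k q).comp (aeval t) = g := MvPolynomial.algHom_ext fun i => by simp [ht]
  choose P hPm hP using fun i => hg (Ideal.Quotient.mk q (a i))
  let f : Fin n → A := fun i => ((P i).map (aeval t).toRingHom).eval (a i)
  have hf : ∀ i, f i ∈ q := fun i => by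
    rw [← Ideal.Quotient.eq_zero_iff_mem]
    show Ideal.Quotient.mk q (Polynomial.eval (a i) _) = 0
    rw [Polynomial.eval_map, Polynomial.hom_eval₂]
    refine Eq.trans ?_ (hP i)
    congr 1
    exact congrArg AlgHom.toRingHom hgt
  let z0 : Fin (n + c) → A := Fin.append f t
  let h := (aeval z0 : MvPolynomial (Fin (n + c)) k →ₐ[k] A)
  have hgen : Gen (F := k) z0 := by
    have key : ∀ i, h.toRingHom.IsIntegralElem (a i) := by
      intro i
      refine ⟨(P i).map (rename (Fin.natAdd n)).toRingHom - Polynomial.C (X (Fin.castAdd c i)),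
        ((hPm i).map _).sub_of_left ?_, ?_⟩
      · rw [(hPm i).degree_map]
        refine lt_of_le_of_lt Polynomial.degree_C_le ?_
        rw [Polynomial.degree_eq_natDegree (hPm i).ne_zero, Nat.cast_pos]
        by_contra h0
        have := hP i
        rw [Polynomial.eq_one_of_monic_natDegree_zero (hPm i) (by omega), Polynomial.eval₂_one] at this
        exact one_ne_zero this
      · rw [Polynomial.eval₂_sub, Polynomial.eval₂_C, Polynomial.eval₂_map, sub_eq_zero]
        show _ = aeval z0 (X (Fin.castAdd c i))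
        rw [aeval_X, show z0 (Fin.castAdd c i) = f i from Fin.append_left ..]
        show _ = ((P i).map (aeval t).toRingHom).eval (a i)
        rw [Polynomial.eval_map]
        congr 1
        ext p <;> simp [h, z0]
    intro b
    obtain ⟨b, rfl⟩ := hπ b
    induction b using MvPolynomial.induction_on with
    | C c' =>
      rw [show π (C c') = h.toRingHom (C c') from (π.commutes c').trans (h.commutes c').symm]
      exact RingHom.isIntegralElem_map _
    | add p q hp hq => rw [map_add]; exact RingHom.IsIntegralElem.add _ hp hq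
    | mul_X p i hp => rw [map_mul]; exact RingHom.IsIntegralElem.mul _ hp (key i)
  have hn : d ≤ n + c := by
    letI := h.toRingHom.toAlgebra
    haveI : Algebra.IsIntegral (MvPolynomial (Fin (n + c)) k) A := ⟨hgen⟩
    have := EGA4Alg4.ringKrullDim_le_of_integral (MvPolynomial (Fin (n + c)) k) A
    rw [hd, MvPolynomial.ringKrullDim_of_isNoetherianRing, ringKrullDim_eq_zero_of_field, zero_add, Nat.card_fin] at this
    exact_mod_cast this
  obtain ⟨w, hw, hw1, hw2⟩ := reduce hd q t n hn z0 hgen
    ⟨fun j => by simpa [z0] using hf j, fun i => by simp [z0]⟩ hcd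
  have hdc : d - c + c = d := Nat.sub_add_cancel hcd
  let w' : Fin d → A := fun l => w (l.cast hdc.symm)
  have hw' : Gen (F := k) w' := gen_of_val w w' hw fun L _ φ O _ hO j => by
    simpa [w'] using hO (j.cast hdc)
  refine ⟨aeval w', finite_of_gen w' hw', injective_of_finite hd _ hw', fun l => ?_⟩
  rw [aeval_X]
  split_ifs with hl
  · have e : l.cast hdc.symm = Fin.natAdd (d - c) (⟨l - (d - c), by omega⟩ : Fin c) := by
      apply Fin.ext; simp; omega
    show Ideal.Quotient.mk q (w _) = _
    rw [e, ← ht, Ideal.Quotient.eq]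
    exact hw2 _
  · have e : l.cast hdc.symm = Fin.castAdd c (⟨l, by omega⟩ : Fin (d - c)) := Fin.ext rfl
    show Ideal.Quotient.mk q (w _) = _
    rw [e, Ideal.Quotient.eq_zero_iff_mem]
    exact hw1 _

end Groth.Agent.NoetherChain31
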