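import Groth.Agent.NoetherChain31.Primes
import Mathlib

/-! Normalisation adapted to a chain, and the extension of the chain. -/

set_option autoImplicit false
universe u

open MvPolynomial

namespace Groth.Agent.NoetherChain31

theorem exists_chainNorm (k : Type u) [Field k] : ∀ (r : ℕ) (A : Type u) [CommRing A] [IsDomain A] [Algebra k A]
    [Algebra.FiniteType k A] (d : ℕ), ringKrullDim A = (d : WithBot ℕ∞) →
    ∀ (q : Fin r → PrimeSpectrum A), StrictMono q → ∀ (h : Fin r → ℕ), (∀ i, h i ≤ d) →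
    (∀ i, ringKrullDim (A ⧸ (q i).asIdeal) = ((d - h i : ℕ) : WithBot ℕ∞)) →
    ∃ φ : MvPolynomial (Fin d) k →ₐ[k] A, φ.toRingHom.Finite ∧ Function.Injective φ ∧
      ∀ i, (q i).asIdeal.comap φ = P k d (h i) := by
  intro r
  induction r with
  | zero =>
    intro A _ _ _ _ d hd q _ h _ _
    obtain ⟨s, g, hg, hgfin⟩ := exists_finite_inj_algHom_of_fg k A
    obtain rfl : s = d := by
      letI := g.toRingHom.toAlgebra
      haveI : Algebra.IsIntegral (MvPolynomial (Fin s) k) A := ⟨RingHom.Finite.to_isIntegral hgfin⟩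
      have h := EGA4Alg4.ringKrullDim_eq_of_integral (MvPolynomial (Fin s) k) A hg
      rw [hd, MvPolynomial.ringKrullDim_of_isNoetherianRing, ringKrullDim_eq_zero_of_field, zero_add,
        Nat.card_fin] at h
      exact_mod_cast h.symm
    exact ⟨g, hgfin, hg, fun i => Fin.elim0 i⟩
  | succ r ih =>
    intro A _ _ _ _ d hd q hq h hh hdim
    let q₀ := (q 0).asIdeal
    let π := Ideal.Quotient.mk q₀
    have hker : ∀ i : Fin r, RingHom.ker π ≤ (q i.succ).asIdeal := fun i => by
      rw [Ideal.mk_ker]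
      exact (hq (Fin.succ_pos i)).le
    let q' : Fin r → PrimeSpectrum (A ⧸ q₀) := fun i =>
      ⟨(q i.succ).asIdeal.map π, Ideal.map_isPrime_of_surjective Ideal.Quotient.mk_surjective (hker i)⟩
    have hback : ∀ i, (q' i).asIdeal.comap π = (q i.succ).asIdeal := fun i => by
      rw [Ideal.comap_map_of_surjective _ Ideal.Quotient.mk_surjective, sup_eq_left, ← RingHom.ker_eq_comap_bot]
      exact hker i
    have hmono : StrictMono q' := fun i j hij => by
      have hlt := hq (Fin.succ_lt_succ_iff.2 hij)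
      refine lt_of_le_of_ne (Ideal.map_mono hlt.le) fun heq => hlt.ne (PrimeSpectrum.ext ?_)
      rw [← hback i, ← hback j, heq]
    have hh0 : ∀ i : Fin r, h 0 ≤ h i.succ := fun i => by
      have h1 : ringKrullDim (A ⧸ (q i.succ).asIdeal) ≤ ringKrullDim (A ⧸ q₀) :=
        ringKrullDim_le_of_surjective (Ideal.Quotient.factor (hq (Fin.succ_pos i)).le)
          (Ideal.Quotient.factor_surjective _)
      rw [hdim, hdim] at h1
      have h2 : d - h i.succ ≤ d - h 0 := by exact_mod_cast h1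
      have := hh i.succ
      have := hh 0
      omega
    obtain ⟨g, hgfin, hginj, hg⟩ := ih (A ⧸ q₀) (d - h 0) (hdim 0) q' hmono (fun i => h i.succ - h 0)
      (fun i => Nat.sub_le_sub_right (hh _) _) fun i => by
        rw [ringKrullDim_eq_of_ringEquiv (DoubleQuot.quotQuotEquivQuotOfLE (hq (Fin.succ_pos i)).le), hdim]
        congr 1
        have := hh i.succ
        have := hh0 i
        omega
    obtain ⟨φ, hfin, hinj, hφ⟩ := exists_adapted hd q₀ (Nat.sub_le d (h 0)) g (RingHom.Finite.to_isIntegral hgfin)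
    refine ⟨φ, hfin, hinj, ?_⟩
    have hrel : (Ideal.Quotient.mkₐ k q₀).comp φ = g.comp (killHom k d (h 0)) := MvPolynomial.algHom_ext fun l => by
      have e : d - (d - h 0) = h 0 := by have := hh 0; omega
      simp only [AlgHom.comp_apply, Ideal.Quotient.mkₐ_eq_mk, hφ, killHom, aeval_X, e]
      split_ifs
      · rfl
      · rw [map_zero]
    have hcm : ∀ x : Ideal (A ⧸ q₀), (x.comap π).comap φ = (x.comap g).comap (killHom k d (h 0)) := by
      intro x
      ext p
      show Ideal.Quotient.mk q₀ (φ p) ∈ x ↔ g (killHom k d (h 0) p) ∈ x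
      rw [show Ideal.Quotient.mk q₀ (φ p) = g (killHom k d (h 0) p) from AlgHom.congr_fun hrel p]
    intro i
    induction i using Fin.cases with
    | zero =>
      rw [show (q 0).asIdeal = (⊥ : Ideal (A ⧸ q₀)).comap π from (Ideal.mk_ker).symm.trans (RingHom.ker_eq_comap_bot π),
        hcm, ← ker_killHom]
      ext p
      simp [map_eq_zero_iff g hginj, RingHom.mem_ker]
    | succ i => rw [← hback i, hcm, hg, comap_P k (hh0 i) (hh 0)]

variable {k : Type u} [Field k] {A : Type u} [CommRing A] [IsDomain A] [Algebra k A] {d : ℕ}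

theorem exists_extend (φ : MvPolynomial (Fin d) k →ₐ[k] A) (hfin : φ.toRingHom.Finite) (hinj : Function.Injective φ)
    {r : ℕ} (q : Fin r → PrimeSpectrum A) (hq : StrictMono q) (h : Fin r → ℕ) (hh : ∀ i, h i ≤ d)
    (hcomap : ∀ i, (q i).asIdeal.comap φ = P k d (h i)) :
    ∃ Q : ℕ → PrimeSpectrum A, (∀ j, j ≤ d → (Q j).asIdeal.comap φ = P k d j) ∧
      (∀ j, j < d → Q j < Q (j + 1)) ∧ (∀ i, Q (h i) = q i) := by
  classical
  have hmono : ∀ i i', q i ≤ q i' → h i ≤ h i' := fun i i' hle =>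
    le_of_P_le k (hh i) (by rw [← hcomap, ← hcomap]; exact Ideal.comap_mono hle)
  have hinjh : ∀ i i', h i = h i' → q i = q i' := by
    intro i i' he
    rcases le_total i i' with hle | hle
    · exact PrimeSpectrum.ext (eq_of_comap_eq φ hfin (hq.monotone hle) (by rw [hcomap, hcomap, he]))
    · exact (PrimeSpectrum.ext (eq_of_comap_eq φ hfin (hq.monotone hle) (by rw [hcomap, hcomap, he]))).symm
  have hle_of : ∀ i i', h i ≤ h i' → q i ≤ q i' := by
    intro i i' he
    rcases le_total i i' with hle | hle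
    · exact hq.monotone hle
    · exact (hinjh i i' (le_antisymm he (hmono _ _ (hq.monotone hle)))).le
  have below : ∀ j, ∃ b : PrimeSpectrum A, ∃ a, a ≤ j ∧ a ≤ d ∧ b.asIdeal.comap φ = P k d a ∧
      (∀ i, h i ≤ j → q i ≤ b) ∧ ∀ x : PrimeSpectrum A, (∀ i, h i ≤ j → q i ≤ x) → b ≤ x := by
    intro j
    by_cases hne : ∃ i, h i ≤ j
    · obtain ⟨i₀, hi₀, hmax⟩ := Finset.exists_max_image (Finset.univ.filter fun i => h i ≤ j) h
        (by obtain ⟨i, hi⟩ := hne; exact ⟨i, by simp [hi]⟩)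
      refine ⟨q i₀, h i₀, (Finset.mem_filter.1 hi₀).2, hh _, hcomap _,
        fun i hi => hle_of _ _ (hmax i (by simp [hi])), fun x hx => hx _ (Finset.mem_filter.1 hi₀).2⟩
    · refine ⟨⟨⊥, Ideal.isPrime_bot⟩, 0, Nat.zero_le _, Nat.zero_le _, ?_, fun i hi => absurd ⟨i, hi⟩ hne,
        fun x _ => (bot_le : (⊥ : Ideal A) ≤ x.asIdeal)⟩
      rw [P_zero]
      ext p
      simp [map_eq_zero_iff φ hinj]
  suffices H : ∀ m, m ≤ d → ∃ Q : ℕ → PrimeSpectrum A,
      (∀ j, d - m ≤ j → j ≤ d → (Q j).asIdeal.comap φ = P k d j) ∧ (∀ j, d - m ≤ j → j < d → Q j < Q (j + 1)) ∧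
      (∀ i, d - m ≤ h i → Q (h i) = q i) ∧ ∀ i, h i ≤ d - m → q i ≤ Q (d - m) by
    obtain ⟨Q, h1, h2, h3, -⟩ := H d le_rfl
    exact ⟨Q, fun j hj => h1 j (by omega) hj, fun j hj => h2 j (by omega) hj, fun i => h3 i (by omega)⟩
  intro m
  induction m with
  | zero =>
    intro _
    obtain ⟨x, hxp, hxd, hxq, hxi⟩ : ∃ x : PrimeSpectrum A, True ∧ x.asIdeal.comap φ = P k d d ∧
        (∀ i, q i ≤ x) ∧ ∀ i, h i = d → x = q i := by
      by_cases hd : ∃ i, h i = d
      · obtain ⟨i, hi⟩ := hd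
        exact ⟨q i, trivial, hi ▸ hcomap i, fun i' => hle_of _ _ (hi ▸ hh i'),
          fun i' hi' => hinjh _ _ (hi.trans hi'.symm)⟩
      · obtain ⟨b, a, -, had, hb, hbq, -⟩ := below d
        obtain ⟨x, hxp, hbx, hx⟩ := exists_above φ hfin hb had
        exact ⟨⟨x, hxp⟩, trivial, hx, fun i => le_trans (hbq i (hh i)) hbx, fun i hi => absurd ⟨i, hi⟩ hd⟩
    refine ⟨fun _ => x, fun j hj hj' => ?_, fun j hj hj' => absurd hj (by omega), fun i hi => ?_, fun i _ => hxq i⟩
    · rw [show j = d by omega]; exact hxd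
    · exact hxi i (le_antisymm (hh i) (by omega))
  | succ m ih =>
    intro hm
    obtain ⟨Q, hQ1, hQ2, hQ3, hQ4⟩ := ih (by omega)
    set j := d - (m + 1)
    have hj1 : d - m = j + 1 := by omega
    rw [hj1] at hQ1 hQ2 hQ3 hQ4
    obtain ⟨x, hxd, hxle, hxq, hxi⟩ : ∃ x : PrimeSpectrum A, x.asIdeal.comap φ = P k d j ∧ x ≤ Q (j + 1) ∧
        (∀ i, h i ≤ j → q i ≤ x) ∧ ∀ i, h i = j → x = q i := by
      by_cases hd : ∃ i, h i = j
      · obtain ⟨i, hi⟩ := hd
        exact ⟨q i, hi ▸ hcomap i, hQ4 i (by omega), fun i' hi' => hle_of _ _ (hi ▸ hi'),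
          fun i' hi' => hinjh _ _ (hi.trans hi'.symm)⟩
      · obtain ⟨b, a, haj, -, hb, hbq, hbmin⟩ := below j
        have hbQ : b ≤ Q (j + 1) := hbmin _ fun i hi => hQ4 i (by omega)
        obtain ⟨x, hxp, hbx, hxQ, hx⟩ := exists_between φ hfin hbQ haj (Nat.le_succ j) (by omega) hb
          (hQ1 (j + 1) le_rfl (by omega))
        exact ⟨⟨x, hxp⟩, hx, hxQ, fun i hi => le_trans (hbq i hi) hbx, fun i hi => absurd ⟨i, hi⟩ hd⟩
    have hlt : x < Q (j + 1) := lt_of_le_of_ne hxle fun heq => by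
      have h1 := hQ1 (j + 1) le_rfl (by omega)
      rw [← heq, hxd] at h1
      have := le_of_P_le k (show j + 1 ≤ d by omega) h1.ge
      omega
    refine ⟨Function.update Q j x, fun l hl hl' => ?_, fun l hl hl' => ?_, fun i hi => ?_, fun i hi => ?_⟩
    · rcases eq_or_ne l j with rfl | hne
      · rw [Function.update_self]; exact hxd
      · rw [Function.update_of_ne hne]; exact hQ1 l (by omega) hl'
    · rcases eq_or_ne l j with rfl | hne
      · rw [Function.update_self, Function.update_of_ne (by omega)]; exact hlt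
      · rw [Function.update_of_ne hne, Function.update_of_ne (by omega)]; exact hQ2 l (by omega) hl'
    · rcases eq_or_ne (h i) j with he | hne
      · rw [he, Function.update_self]; exact hxi i he
      · rw [Function.update_of_ne hne]; exact hQ3 i (by omega)
    · rw [Function.update_self]; exact hxq i hi

end Groth.Agent.NoetherChain31
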