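import Groth.Agent.NoetherChain31.Adapted
import Mathlib

/-! Coordinate primes and chains over them. -/

set_option autoImplicit false
universe u

open MvPolynomial

namespace Groth.Agent.NoetherChain31

variable (k : Type u) [Field k]

/-- the ideal `(T_l : l < j)` -/
noncomputable def P (d j : ℕ) : Ideal (MvPolynomial (Fin d) k) :=
  Ideal.span (MvPolynomial.X '' {l : Fin d | (l : ℕ) < j})

/-- kill the first `a` variables -/
noncomputable def killHom (d a : ℕ) : MvPolynomial (Fin d) k →ₐ[k] MvPolynomial (Fin (d - a)) k :=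
  aeval fun l => if h : a ≤ (l : ℕ) then X (⟨l - a, by omega⟩ : Fin (d - a)) else 0

theorem killHom_surjective {d a : ℕ} (ha : a ≤ d) : Function.Surjective (killHom k d a) := by
  let s : MvPolynomial (Fin (d - a)) k →ₐ[k] MvPolynomial (Fin d) k :=
    rename fun l => (⟨l + a, by omega⟩ : Fin d)
  have : (killHom k d a).comp s = AlgHom.id k _ := MvPolynomial.algHom_ext fun l => by
    simp [s, killHom]
  exact fun p => ⟨s p, AlgHom.congr_fun this p⟩

theorem sub_mem_P {d a : ℕ} (p : MvPolynomial (Fin d) k) :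
    p - rename (fun l : Fin (d - a) => (⟨l + a, by omega⟩ : Fin d)) (killHom k d a p) ∈ P k d a := by
  rw [← Ideal.Quotient.eq]
  suffices Ideal.Quotient.mkₐ k (P k d a) = (Ideal.Quotient.mkₐ k (P k d a)).comp
      ((rename fun l : Fin (d - a) => (⟨l + a, by omega⟩ : Fin d)).comp (killHom k d a))
    from DFunLike.congr_fun this p
  refine MvPolynomial.algHom_ext fun l => ?_
  by_cases h : a ≤ (l : ℕ)
  · simp [killHom, h, Nat.sub_add_cancel h]
  · simp only [killHom, AlgHom.comp_apply, aeval_X, dif_neg h, map_zero]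
    exact Ideal.Quotient.eq_zero_iff_mem.2 (Ideal.subset_span ⟨l, not_le.1 h, rfl⟩)

theorem ker_killHom (d a : ℕ) : RingHom.ker (killHom k d a) = P k d a := by
  refine le_antisymm (fun p hp => ?_) (Ideal.span_le.2 ?_)
  · have := sub_mem_P k (a := a) p
    rwa [RingHom.mem_ker.1 hp, map_zero, sub_zero] at this
  · rintro _ ⟨l, (hl : (l : ℕ) < a), rfl⟩
    simp [killHom, not_le.2 hl]

theorem P_mono {d i j : ℕ} (h : i ≤ j) : P k d i ≤ P k d j :=
  Ideal.span_mono (Set.image_mono fun l (hl : (l : ℕ) < i) => lt_of_lt_of_le hl h)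

instance P_isPrime (d a : ℕ) : (P k d a).IsPrime := by
  rw [← ker_killHom]
  exact RingHom.ker_isPrime _

theorem le_of_P_le {d i j : ℕ} (hi : i ≤ d) (h : P k d i ≤ P k d j) : i ≤ j := by
  by_contra hlt
  push Not at hlt
  have h1 : (X (⟨j, by omega⟩ : Fin d) : MvPolynomial (Fin d) k) ∈ P k d i :=
    Ideal.subset_span ⟨_, hlt, rfl⟩
  have h2 := h h1
  rw [← ker_killHom] at h2
  simp [killHom] at h2

theorem P_zero (d : ℕ) : P k d 0 = ⊥ := by
  simp [P]

theorem comap_P {d a e : ℕ} (hae : a ≤ e) (had : a ≤ d) :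
    (P k (d - a) (e - a)).comap (killHom k d a) = P k d e := by
  have hmap : (P k d e).map (killHom k d a) = P k (d - a) (e - a) := by
    rw [P, Ideal.map_span]
    refine le_antisymm (Ideal.span_le.2 ?_) (Ideal.span_mono ?_)
    · rintro _ ⟨_, ⟨l, hl, rfl⟩, rfl⟩
      simp only [killHom, aeval_X, SetLike.mem_coe]
      split_ifs with h
      · exact Ideal.subset_span ⟨_, Set.mem_setOf_eq ▸ (show (l : ℕ) - a < e - a by simp at hl; omega), rfl⟩
      · exact zero_mem _
    · rintro _ ⟨l, hl, rfl⟩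
      refine ⟨X (⟨l + a, by omega⟩ : Fin d), ⟨_, ?_, rfl⟩, ?_⟩
      · simp at hl ⊢; omega
      · simp [killHom]
  rw [← hmap, Ideal.comap_map_of_surjective _ (killHom_surjective k had), ← RingHom.ker_eq_comap_bot,
    ker_killHom, sup_eq_left.2 (P_mono k hae)]

variable {k} {A : Type u} [CommRing A] [IsDomain A] [Algebra k A] {d : ℕ}

/-- Incomparability over the normalisation. -/
theorem eq_of_comap_eq (φ : MvPolynomial (Fin d) k →ₐ[k] A) (hφ : φ.toRingHom.Finite) {I J : Ideal A} [I.IsPrime]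
    (hIJ : I ≤ J) (h : I.comap φ = J.comap φ) : I = J := by
  by_contra hne
  let _ := φ.toRingHom.toAlgebra
  have : Algebra.IsIntegral (MvPolynomial (Fin d) k) A := ⟨hφ.to_isIntegral⟩
  exact (Ideal.IsIntegral.comap_lt_comap (R := MvPolynomial (Fin d) k) (lt_of_le_of_ne hIJ hne)).ne h

theorem exists_between (φ : MvPolynomial (Fin d) k →ₐ[k] A) (hφ : φ.toRingHom.Finite)
    {b c : Ideal A} [b.IsPrime] [c.IsPrime] (hbc : b ≤ c) {a j e : ℕ} (haj : a ≤ j) (hje : j ≤ e) (hed : e ≤ d)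
    (hb : b.comap φ = P k d a) (hc : c.comap φ = P k d e) :
    ∃ x : Ideal A, x.IsPrime ∧ b ≤ x ∧ x ≤ c ∧ x.comap φ = P k d j := by
  have had : a ≤ d := le_trans haj (le_trans hje hed)
  let R' := MvPolynomial (Fin (d - a)) k
  let ψ₀ : MvPolynomial (Fin d) k →ₐ[k] A ⧸ b := (Ideal.Quotient.mkₐ k b).comp φ
  let s : R' →ₐ[k] MvPolynomial (Fin d) k := rename fun l => (⟨l + a, by omega⟩ : Fin d)
  let ψ : R' →ₐ[k] A ⧸ b := ψ₀.comp s
  have hψ : ∀ p, ψ₀ p = ψ (killHom k d a p) := by
    intro p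
    have h1 : p - s (killHom k d a p) ∈ b.comap φ := hb.symm ▸ sub_mem_P k p
    show Ideal.Quotient.mk b (φ p) = Ideal.Quotient.mk b (φ (s (killHom k d a p)))
    rw [Ideal.Quotient.eq, ← map_sub]
    exact h1
  have hinj : Function.Injective ψ := by
    rw [injective_iff_map_eq_zero]
    intro p hp
    obtain ⟨p, rfl⟩ := killHom_surjective k had p
    rw [← hψ] at hp
    have : p ∈ b.comap φ := (Ideal.Quotient.eq_zero_iff_mem (I := b)).1 hp
    rw [hb, ← ker_killHom] at this
    exact this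
  have hψint : ψ.toRingHom.IsIntegral := by
    intro z
    obtain ⟨z, rfl⟩ := Ideal.Quotient.mk_surjective z
    obtain ⟨Q, hQm, hQ⟩ := hφ.to_isIntegral z
    refine ⟨Q.map (killHom k d a).toRingHom, hQm.map _, ?_⟩
    rw [Polynomial.eval₂_map, show ψ.toRingHom.comp (killHom k d a).toRingHom =
      (Ideal.Quotient.mk b).comp φ.toRingHom from RingHom.ext fun p => (hψ p).symm, ← Polynomial.hom_eval₂, hQ,
      map_zero]
  let _ := ψ.toRingHom.toAlgebra
  have : Algebra.IsIntegral R' (A ⧸ b) := ⟨hψint⟩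
  have : FaithfulSMul R' (A ⧸ b) := (faithfulSMul_iff_algebraMap_injective _ _).2 hinj
  let c' := c.map (Ideal.Quotient.mk b)
  have hker : RingHom.ker (Ideal.Quotient.mk b) ≤ c := by rw [Ideal.mk_ker]; exact hbc
  have hcc : c'.comap (Ideal.Quotient.mk b) = c := by
    rw [Ideal.comap_map_of_surjective _ Ideal.Quotient.mk_surjective, sup_eq_left, ← RingHom.ker_eq_comap_bot]
    exact hker
  have : c'.IsPrime := Ideal.map_isPrime_of_surjective Ideal.Quotient.mk_surjective hker
  have hrel : ∀ (x : Ideal (A ⧸ b)), (x.comap (Ideal.Quotient.mk b)).comap φ = (x.comap ψ).comap (killHom k d a) := by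
    intro x
    ext p
    show Ideal.Quotient.mk b (φ p) ∈ x ↔ ψ (killHom k d a p) ∈ x
    rw [← hψ]
    rfl
  have hover : c'.LiesOver (P k (d - a) (e - a)) := ⟨by
    apply Ideal.comap_injective_of_surjective _ (killHom_surjective k had)
    rw [comap_P k (le_trans haj hje) had]
    rw [← hc, ← hcc]
    exact hrel c'⟩
  obtain ⟨x, hxc, hx, hxo⟩ := Ideal.exists_ideal_le_liesOver_of_le (S := A ⧸ b) c'
    (P_mono k (show j - a ≤ e - a by omega) : P k (d - a) (j - a) ≤ P k (d - a) (e - a))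
  refine ⟨x.comap (Ideal.Quotient.mk b), inferInstance, ?_, hcc ▸ Ideal.comap_mono hxc, ?_⟩
  · intro y hy
    simp [Ideal.mem_comap, Ideal.Quotient.eq_zero_iff_mem.2 hy]
  · rw [hrel, ← comap_P k haj had]
    congr 1
    exact hxo.over.symm

theorem exists_above (φ : MvPolynomial (Fin d) k →ₐ[k] A) (hφ : φ.toRingHom.Finite)
    {b : Ideal A} {a : ℕ} (hb : b.comap φ = P k d a) (had : a ≤ d) :
    ∃ x : Ideal A, x.IsPrime ∧ b ≤ x ∧ x.comap φ = P k d d := by
  let _ := φ.toRingHom.toAlgebra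
  have : Algebra.IsIntegral (MvPolynomial (Fin d) k) A := ⟨hφ.to_isIntegral⟩
  obtain ⟨x, hx, hxp, hxo⟩ := Ideal.exists_ideal_over_prime_of_isIntegral (S := A) (P k d d) b
    (hb.le.trans (P_mono k had))
  exact ⟨x, hxp, hx, hxo⟩

end Groth.Agent.NoetherChain31
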